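import Cfsg.Agent.H15.Transfer
import Cfsg.Agent.H15.Data.OrbC100
import Cfsg.Agent.H15.Data.OrbC352
import Cfsg.Agent.H15.Data.OrbS100x22
import Cfsg.Agent.H15.Data.OrbS100x77

/-! The Higman–Sims configurations: 100 and 352 minimal vectors. -/

set_option autoImplicit false

namespace Cfsg.Agent.H15

open Finset

/-- The 100 vectors of a configuration `v, w`. -/
def set100 (v w : ↥leechLattice) : Set ↥leechLattice :=
  {x | sqNorm (x : GolayPt → ℤ) = 32 ∧ dotInt (v : GolayPt → ℤ) (x : GolayPt → ℤ) = 24 ∧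
    dotInt (w : GolayPt → ℤ) (x : GolayPt → ℤ) = -24}

/-- The 352 vectors of a configuration `v, w`. -/
def set352 (v w : ↥leechLattice) : Set ↥leechLattice :=
  {x | sqNorm (x : GolayPt → ℤ) = 32 ∧ dotInt (v : GolayPt → ℤ) (x : GolayPt → ℤ) = 16 ∧
    dotInt (w : GolayPt → ℤ) (x : GolayPt → ℤ) = -24}

theorem smul_mem_set100 (g : ↥Co0) {v w x : ↥leechLattice} :
    g • x ∈ set100 (g • v) (g • w) ↔ x ∈ set100 v w := by
  simp only [set100, Set.mem_ofPred_eq, sqNorm_smul, dot_smul]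

theorem smul_mem_set352 (g : ↥Co0) {v w x : ↥leechLattice} :
    g • x ∈ set352 (g • v) (g • w) ↔ x ∈ set352 v w := by
  simp only [set352, Set.mem_ofPred_eq, sqNorm_smul, dot_smul]

/-- The code of the base point of the 100. -/
def c100 : ℕ := 0x488888888888888888888884
/-- The code of the base point of the 352. -/
def c352 : ℕ := 0xaaa888aaa8a8a88888888888

/-- The base point of the 100. -/
def b100 : ↥leechLattice := ofCode c100 (by decide +kernel)
/-- The base point of the 352. -/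
def b352 : ↥leechLattice := ofCode c352 (by decide +kernel)

theorem b100_mem : b100 ∈ set100 bV bW := by
  simp only [set100, Set.mem_ofPred_eq, bV, bW, b100, ofCode_val, sqNorm_vecOf, dot_vecOf]
  decide +kernel

theorem b352_mem : b352 ∈ set352 bW bV := by
  simp only [set352, Set.mem_ofPred_eq, bV, bW, b352, ofCode_val, sqNorm_vecOf, dot_vecOf]
  decide +kernel

theorem fixCodes_VA_le :
    fixCodes [cV, cA] ≤ MulAction.stabilizer ↥Co0 bV ⊓ MulAction.stabilizer ↥Co0 bA :=
  le_inf (fixCodes_le_stab (List.mem_cons_self ..) rfl)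
    (fixCodes_le_stab (List.mem_cons_of_mem _ (List.mem_cons_self ..)) rfl)

theorem fixes_bW {g : ↥Co0}
    (hg : g ∈ MulAction.stabilizer ↥Co0 bV ⊓ MulAction.stabilizer ↥Co0 bA) : g • bW = bW := by
  rw [bW_eq, co0_smul_sub, co0_smul_neg, MulAction.mem_stabilizer_iff.1 hg.1,
    MulAction.mem_stabilizer_iff.1 hg.2]

/-- The orbit on the 100. -/
theorem orbit_100 :
    MulAction.orbit ↥(MulAction.stabilizer ↥Co0 bV ⊓ MulAction.stabilizer ↥Co0 bA) b100 =
        set100 bV bW ∧
      (set100 bV bW).ncard = 100 ∧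
      ∀ x ∈ set100 bV bW, ∃ i < Data.certC100.n, x.1 = vecOf (Data.certC100.pt i) := by
  obtain ⟨hfin, hle⟩ := sub_count orbit_bB.2.2 (T := set100 bV bW)
    (fun x hx => ⟨hx.1, hx.2.1⟩) (x0 := bW) (c0 := cW) rfl (d := -24) fun y hy => hy.2.2
  refine cert_orbit Data.gensHS_ok Data.pcsHS_eq Data.certC100_ok [cV, cA] (by decide +kernel) _
    fixCodes_VA_le (congrArg vecOf (by decide +kernel : c100 = Data.certC100.pt 0)) hfin
    (fun g hg => ?_) (le_trans hle (by decide +kernel))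
  have := (smul_mem_set100 g).2 b100_mem
  rwa [MulAction.mem_stabilizer_iff.1 hg.1, fixes_bW hg] at this

theorem set352_dot {x : ↥leechLattice} (hx : x ∈ set352 bW bV) :
    -x ∈ setB bV ∧ dotInt bW.1 (-x : ↥leechLattice).1 = -16 := by
  obtain ⟨h1, h2, h3⟩ := hx
  refine ⟨⟨?_, ?_⟩, ?_⟩
  · rw [AddSubgroup.coe_neg, H14.sqNorm_neg, h1]
  · rw [AddSubgroup.coe_neg, H14.dotInt_neg_right, h3]; norm_num
  · rw [AddSubgroup.coe_neg, H14.dotInt_neg_right, h2]

/-- The orbit on the 352. -/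
theorem orbit_352 :
    MulAction.orbit ↥(MulAction.stabilizer ↥Co0 bV ⊓ MulAction.stabilizer ↥Co0 bA) b352 =
        set352 bW bV ∧
      (set352 bW bV).ncard = 352 ∧
      ∀ x ∈ set352 bW bV, ∃ i < Data.certC352.n, x.1 = vecOf (Data.certC352.pt i) := by
  obtain ⟨hfin, hle⟩ := ncard_le_countBlocks (S := set352 bW bV) (C := Data.certB)
    (fun x => (-x : ↥leechLattice).1) (Subtype.val_injective.comp neg_injective)
    (fun x hx => orbit_bB.2.2 _ (set352_dot hx).1) (fun P => decide (dotPP cW P = -16))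
    (fun x hx P hP => by
      rw [decide_eq_true_eq, ← dot_vecOf, ← hP]; exact (set352_dot hx).2)
  refine cert_orbit Data.gensHS_ok Data.pcsHS_eq Data.certC352_ok [cV, cA] (by decide +kernel) _
    fixCodes_VA_le (congrArg vecOf (by decide +kernel : c352 = Data.certC352.pt 0)) hfin
    (fun g hg => ?_) (le_trans hle (by decide +kernel))
  have := (smul_mem_set352 g).2 b352_mem
  rwa [MulAction.mem_stabilizer_iff.1 hg.1, fixes_bW hg] at this

/-- Code of the representative of the suborbit of length 22. -/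
def c22 : ℕ := 0x7b7777777777777777777777
/-- Code of the representative of the suborbit of length 77. -/
def c77 : ℕ := 0x688888688688888888686666
/-- Representative of the suborbit of length 22. -/
def b22 : ↥leechLattice := ofCode c22 (by decide +kernel)
/-- Representative of the suborbit of length 77. -/
def b77 : ↥leechLattice := ofCode c77 (by decide +kernel)

theorem stab100_inv : ∀ g ∈ stab3 bV bA b100, ∀ y ∈ set100 bV bW, g • y ∈ set100 bV bW := by
  intro g hg y hy
  have := (smul_mem_set100 g).2 hy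
  rwa [MulAction.mem_stabilizer_iff.1 hg.1.1, fixes_bW hg.1] at this

theorem b22_mem : b22 ∈ set100 bV bW ∧ dotInt b100.1 b22.1 = 8 := by
  simp only [set100, Set.mem_ofPred_eq, bV, bW, b100, b22, ofCode_val, sqNorm_vecOf, dot_vecOf]
  decide +kernel

theorem b77_mem : b77 ∈ set100 bV bW ∧ dotInt b100.1 b77.1 = 16 := by
  simp only [set100, Set.mem_ofPred_eq, bV, bW, b100, b77, ofCode_val, sqNorm_vecOf, dot_vecOf]
  decide +kernel

/-- Suborbit of length 22. -/
theorem orbit_22 : MulAction.orbit ↥(stab3 bV bA b100) b22 =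
      {y | y ∈ set100 bV bW ∧ dotInt b100.1 y.1 = 8} ∧
    {y | y ∈ set100 bV bW ∧ dotInt b100.1 y.1 = 8}.ncard = 22 :=
  sub_orbit orbit_100.2.2 Data.gensSt100_ok Data.pcsSt100_eq Data.certS100x22_ok [cV, cA, c100]
    (by decide +kernel) _ (fixCodes_le_stab3 rfl rfl rfl) stab100_inv (c0 := c100) rfl
    (fun _ hg => hg.2) (congrArg vecOf (by decide +kernel : c22 = Data.certS100x22.pt 0))
    b22_mem.1 b22_mem.2 (by decide +kernel)

/-- Suborbit of length 77. -/
theorem orbit_77 : MulAction.orbit ↥(stab3 bV bA b100) b77 =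
      {y | y ∈ set100 bV bW ∧ dotInt b100.1 y.1 = 16} ∧
    {y | y ∈ set100 bV bW ∧ dotInt b100.1 y.1 = 16}.ncard = 77 :=
  sub_orbit orbit_100.2.2 Data.gensSt100_ok Data.pcsSt100_eq Data.certS100x77_ok [cV, cA, c100]
    (by decide +kernel) _ (fixCodes_le_stab3 rfl rfl rfl) stab100_inv (c0 := c100) rfl
    (fun _ hg => hg.2) (congrArg vecOf (by decide +kernel : c77 = Data.certS100x77.pt 0))
    b77_mem.1 b77_mem.2 (by decide +kernel)

/-- Reduction of the 100 configuration to the base. -/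
theorem exists_red100' {v w : ↥leechLattice} (hv : sqNorm (v : GolayPt → ℤ) = 48)
    (hw : sqNorm (w : GolayPt → ℤ) = 48) (hvw : dotInt (v : GolayPt → ℤ) (w : GolayPt → ℤ) = -32) :
    ∃ g : ↥Co0, g • v = bV ∧ g • w = bW ∧ g • (-v - w) = bA := by
  obtain ⟨g, h1, h2⟩ := exists_redHS hw hv (by rw [H14.dotInt_comm]; exact hvw)
  refine ⟨g, h2, h1, ?_⟩
  rw [co0_smul_sub, co0_smul_neg, h1, h2, bW_eq]
  abel

theorem exists_red100 {v w x : ↥leechLattice} (hv : sqNorm (v : GolayPt → ℤ) = 48)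
    (hw : sqNorm (w : GolayPt → ℤ) = 48) (hvw : dotInt (v : GolayPt → ℤ) (w : GolayPt → ℤ) = -32)
    (hx : x ∈ set100 v w) :
    ∃ g : ↥Co0, g • v = bV ∧ g • w = bW ∧ g • (-v - w) = bA ∧ g • x = b100 := by
  obtain ⟨g, h1, h2, h4⟩ := exists_red100' hv hw hvw
  have h3 : g • x ∈ MulAction.orbit
      ↥(MulAction.stabilizer ↥Co0 bV ⊓ MulAction.stabilizer ↥Co0 bA) b100 := by
    rw [orbit_100.1, ← h1, ← h2, smul_mem_set100]; exact hx
  obtain ⟨k, hk, e⟩ := exists_smul_eq_of_orbit h3 (MulAction.mem_orbit_self b100)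
  exact ⟨k * g, by rw [mul_smul, h1, MulAction.mem_stabilizer_iff.1 hk.1],
    by rw [mul_smul, h2, fixes_bW hk], by rw [mul_smul, h4, MulAction.mem_stabilizer_iff.1 hk.2],
    by rw [mul_smul, e]⟩

theorem exists_red352 {v w x : ↥leechLattice} (hv : sqNorm (v : GolayPt → ℤ) = 48)
    (hw : sqNorm (w : GolayPt → ℤ) = 48) (hvw : dotInt (v : GolayPt → ℤ) (w : GolayPt → ℤ) = -32)
    (hx : x ∈ set352 v w) :
    ∃ g : ↥Co0, g • v = bW ∧ g • w = bV ∧ g • x = b352 := by
  obtain ⟨g, h1, h2⟩ := exists_redHS hv hw hvw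
  have h3 : g • x ∈ MulAction.orbit
      ↥(MulAction.stabilizer ↥Co0 bV ⊓ MulAction.stabilizer ↥Co0 bA) b352 := by
    rw [orbit_352.1, ← h1, ← h2, smul_mem_set352]; exact hx
  obtain ⟨k, hk, e⟩ := exists_smul_eq_of_orbit h3 (MulAction.mem_orbit_self b352)
  exact ⟨k * g, by rw [mul_smul, h1, fixes_bW hk],
    by rw [mul_smul, h2, MulAction.mem_stabilizer_iff.1 hk.1], by rw [mul_smul, e]⟩

/-- Test whether a matrix fixes a packed vector, coordinate by coordinate. -/
def fixesPt (M : Mat) (P : ℕ) : Bool :=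
  allBelow (fun i => decide ((∑ j ∈ range 24, (M.cols.getD j []).getD i 0 * nib P j) = 8 * nib P i)) 24

theorem allBelow_of_forall {f : ℕ → Bool} : ∀ {n : ℕ}, (∀ i < n, f i = true) → allBelow f n = true
  | 0, _ => rfl
  | n + 1, h => by
    rw [allBelow, h n (Nat.lt_succ_self n), allBelow_of_forall fun i hi => h i (by omega)]; rfl

theorem fixesPt_of_smul {M : Mat} (h : M.ok = true) {x : ↥leechLattice} {P : ℕ} (hx : x.1 = vecOf P)
    (hfix : matAut M h • x = x) : fixesPt M P = true := by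
  refine allBelow_of_forall fun i hi => ?_
  obtain ⟨p, rfl⟩ := exists_idx hi
  rw [decide_eq_true_eq, ← sum24 (fun j => (M.cols.getD j []).getD (idx p) 0 * nib P j)]
  have h8 := (image_spec (Mat.ok_spec h).2.2.2.2.2.1 (Mat.ok_spec h).1
    (Mat.ok_spec h).2.2.2.2.2.2.1 (H14.mem_leechLattice_iff.1 x.2)).2 p
  have e := congrFun (congrArg Subtype.val hfix) p
  rw [matAut, H14.mkCo0_apply] at e
  rw [e, hx] at h8
  exact h8.symm

/-- A fixed-point-free involution of the base configuration. -/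
theorem exists_invol_base : ∃ t : ↥Co0, t • bV = bV ∧ t • bW = bW ∧ orderOf t = 2 ∧
    ∀ x ∈ set100 bV bW, t • x ≠ x := by
  set t := matAut Data.gInv0 Data.gInv0_ok with ht
  have hVA : t ∈ MulAction.stabilizer ↥Co0 bV ⊓ MulAction.stabilizer ↥Co0 bA :=
    ⟨smul_eq_self_of_check Data.gInv0_ok (P := cV) (by decide +kernel) rfl,
     smul_eq_self_of_check Data.gInv0_ok (P := cA) (by decide +kernel) rfl⟩
  have hfpf : ∀ x ∈ set100 bV bW, t • x ≠ x := fun x hx hfix => by
    obtain ⟨i, hi, e⟩ := orbit_100.2.2 x hx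
    have key : allBlocks (fun i => !fixesPt Data.gInv0 (Data.certC100.pt i)) Data.certC100.n = true := by
      decide +kernel
    have h := allBlocks_eq_true key hi
    rw [fixesPt_of_smul Data.gInv0_ok e hfix] at h
    exact Bool.noConfusion h
  refine ⟨t, hVA.1, fixes_bW hVA, orderOf_eq_prime ?_ fun h1 => hfpf b100 b100_mem (by
    rw [h1, one_smul]), hfpf⟩
  have hinv : Data.gInv0.rows = Data.gInv0.cols := by decide +kernel
  apply Subtype.ext
  apply Equiv.ext
  intro y
  change (t ^ 2) • y = y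
  apply Subtype.ext
  rw [ht, pow_two, mul_smul, matAut, H14.mkCo0_apply, H14.mkCo0_apply]
  have h := divMap_inv (Mat.ok_spec Data.gInv0_ok).2.2.1
    (image_spec (Mat.ok_spec Data.gInv0_ok).2.2.2.2.2.1 (Mat.ok_spec Data.gInv0_ok).1
      (Mat.ok_spec Data.gInv0_ok).2.2.2.2.2.2.1 (H14.mem_leechLattice_iff.1 y.2)).2
  rwa [hinv] at h

end Cfsg.Agent.H15
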