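import Cfsg.Agent.H15.McLOrbits

/-! Carrying sets and suborbits along an element of `Co0`. -/

set_option autoImplicit false

namespace Cfsg.Agent.H15

/-- Sets corresponding under a group element have the same cardinality. -/
theorem ncard_pullback (g : ↥Co0) (T T' : Set ↥leechLattice) (h : ∀ y, g • y ∈ T' ↔ y ∈ T) :
    T.ncard = T'.ncard := by
  have : T' = (g • ·) '' T := by
    ext y
    refine ⟨fun hy => ⟨g⁻¹ • y, (h _).1 (by rwa [smul_inv_smul]), smul_inv_smul g y⟩, ?_⟩
    rintro ⟨x, hx, rfl⟩; exact (h x).2 hx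
  rw [this, Set.ncard_image_of_injective _ (MulAction.injective g)]

/-- The stabiliser orbit of a pulled back point has the same length. -/
theorem ncard_orbit_pullback (g : ↥Co0) (a b c r : ↥leechLattice) :
    (MulAction.orbit ↥(stab3 a b c) (g⁻¹ • r)).ncard =
      (MulAction.orbit ↥(stab3 (g • a) (g • b) (g • c)) r).ncard := by
  have h := orbit_transport g (stab3_conj g a b c) (g⁻¹ • r)
  rw [smul_inv_smul] at h
  rw [h, Set.ncard_image_of_injective _ (MulAction.injective g)]

theorem exists_stab_of_orbit (g : ↥Co0) {a b c A B C r y y' : ↥leechLattice} (ha : g • a = A)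
    (hb : g • b = B) (hc : g • c = C) (hy : g • y ∈ MulAction.orbit ↥(stab3 A B C) r)
    (hy' : g • y' ∈ MulAction.orbit ↥(stab3 A B C) r) :
    ∃ h : ↥Co0, h • a = a ∧ h • b = b ∧ h • c = c ∧ h • y = y' := by
  obtain ⟨k, hk, e⟩ := exists_smul_eq_of_orbit hy hy'
  exact ⟨g⁻¹ * k * g, by rw [mul_smul, mul_smul, ha, MulAction.mem_stabilizer_iff.1 hk.1.1,
      inv_smul_eq_iff, ha],
    by rw [mul_smul, mul_smul, hb, MulAction.mem_stabilizer_iff.1 hk.1.2, inv_smul_eq_iff, hb],
    by rw [mul_smul, mul_smul, hc, MulAction.mem_stabilizer_iff.1 hk.2, inv_smul_eq_iff, hc],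
    by rw [mul_smul, mul_smul, e, inv_smul_smul]⟩

end Cfsg.Agent.H15
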